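import Groth.Prelude.Def_MoreMor
import Mathlib.AlgebraicGeometry.Morphisms.QuasiSeparated
import Mathlib.AlgebraicGeometry.Morphisms.ClosedImmersion
import Mathlib.AlgebraicGeometry.Morphisms.Affine

/-!
# The geometry of an affine stratification
-/

universe u

open CategoryTheory Limits AlgebraicGeometry TopologicalSpace

set_option linter.style.haveILetI false

namespace Groth.FlatMor2.StratVanish

variable {X : Scheme.{u}}

/-- The data of an affine stratification. -/
structure Strat (X : Scheme.{u}) (n : ℕ) where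
  /-- The index function. -/
  s : X → Fin (n + 1)
  isClosed : ∀ i : Fin (n + 1), IsClosed {x : X | s x ≤ i}
  /-- The strata. -/
  Z : Fin (n + 1) → Scheme.{u}
  /-- The inclusions of the strata. -/
  ι : ∀ i, Z i ⟶ X
  isImmersion : ∀ i, IsImmersion (ι i)
  isAffine : ∀ i, IsAffine (Z i)
  isAffineHom : ∀ i, IsAffineHom (ι i)
  range_eq : ∀ i, Set.range (ι i) = {x : X | s x = i}

lemma Strat.nonempty {n : ℕ} (h : MoreMor.HasAffineStratification X n) :
    Nonempty (Strat X n) := by
  obtain ⟨s, hs, hi⟩ := h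
  choose Z ι h1 h2 h3 h4 using hi
  exact ⟨⟨s, hs, Z, ι, h1, h2, h3, h4⟩⟩

namespace Strat

variable {n : ℕ} (S : Strat X n)

lemma isCompact_inter_stratum {V : X.Opens} (hV : IsAffineOpen V) (i : Fin (n + 1)) :
    IsCompact ((V : Set X) ∩ {x | S.s x = i}) := by
  have := S.isAffineHom i
  have h := ((hV.preimage (S.ι i)).isCompact).image (S.ι i).continuous
  rw [show ((S.ι i ⁻¹ᵁ V : (S.Z i).Opens) : Set (S.Z i)) = S.ι i ⁻¹' (V : Set X) from rfl,
    Set.image_preimage_eq_inter_range, S.range_eq i] at h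
  exact h

/-- The union of the strata of index at least `i`. -/
def top (i : ℕ) : X.Opens :=
  ⟨{x | i ≤ (S.s x).val}, by
    by_cases h : i = 0
    · subst h; simp
    by_cases h' : i - 1 < n + 1
    · rw [← isClosed_compl_iff]
      convert S.isClosed ⟨i - 1, h'⟩ using 1
      ext x
      simp only [Set.mem_compl_iff, Set.mem_ofPred_eq, Fin.le_def]
      omega
    · rw [show {x : X | i ≤ (S.s x).val} = ∅ from
        Set.eq_empty_iff_forall_notMem.2 fun x (hx : i ≤ (S.s x).val) => h' (by
          have := (S.s x).isLt; omega)]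
      exact isOpen_empty⟩

lemma mem_top {i : ℕ} {x : X} : x ∈ S.top i ↔ i ≤ (S.s x).val := Iff.rfl

lemma isCompact_affine_inter_top {V : X.Opens} (hV : IsAffineOpen V) (i : ℕ) :
    IsCompact ((V ⊓ S.top i : X.Opens) : Set X) := by
  have : ((V ⊓ S.top i : X.Opens) : Set X) =
      ⋃ k : {k : Fin (n + 1) // i ≤ k.val}, (V : Set X) ∩ {x | S.s x = k.1} := by
    ext x
    simp only [Opens.coe_inf, Set.mem_inter_iff, SetLike.mem_coe, mem_top, Set.mem_iUnion,
      Set.mem_ofPred_eq]
    exact ⟨fun h => ⟨⟨S.s x, h.2⟩, h.1, rfl⟩, fun ⟨k, h1, h2⟩ => ⟨h1, h2 ▸ k.2⟩⟩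
  rw [this]
  exact isCompact_iUnion fun k => S.isCompact_inter_stratum hV k.1

lemma isCompact_top (i : ℕ) : IsCompact ((S.top i : X.Opens) : Set X) := by
  have : ((S.top i : X.Opens) : Set X) =
      ⋃ k : {k : Fin (n + 1) // i ≤ k.val}, Set.range (S.ι k.1) := by
    ext x
    simp only [S.range_eq, SetLike.mem_coe, mem_top, Set.mem_iUnion, Set.mem_ofPred_eq]
    exact ⟨fun h => ⟨⟨S.s x, h⟩, rfl⟩, fun ⟨k, h2⟩ => h2 ▸ k.2⟩
  rw [this]
  exact isCompact_iUnion fun k => by
    have := S.isAffine k.1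
    exact isCompact_range (S.ι k.1).continuous

include S in
lemma compactSpace : CompactSpace X := by
  refine ⟨?_⟩
  have := S.isCompact_top 0
  rwa [show ((S.top 0 : X.Opens) : Set X) = Set.univ from
    Set.eq_univ_of_forall fun x => Nat.zero_le _] at this

include S in
lemma quasiSeparatedSpace : QuasiSeparatedSpace X := by
  rw [quasiSeparatedSpace_iff_forall_affineOpens]
  intro U V
  have : (U : Set X) ∩ V = ⋃ k, ((U : Set X) ∩ {x | S.s x = k}) ∩ ((V : Set X) ∩ {x | S.s x = k}) := by
    ext x; simp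
  rw [this]
  refine isCompact_iUnion fun k => ?_
  have := S.isAffineHom k
  have := S.isAffine k
  have h : IsCompact (S.ι k '' (S.ι k ⁻¹' ((U : Set X) ∩ V))) := by
    rw [Set.preimage_inter]
    exact (QuasiSeparatedSpace.inter_isCompact _ _ (S.ι k ⁻¹ᵁ U.1).2
      (U.2.preimage (S.ι k)).isCompact (S.ι k ⁻¹ᵁ V.1).2
      (V.2.preimage (S.ι k)).isCompact).image (S.ι k).continuous
  rw [Set.image_preimage_eq_inter_range, S.range_eq k] at h
  convert h using 1
  ext x; simp; tauto

/-- The stratum as a closed subscheme of the union of the strata of larger index. -/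
lemma exists_closedImmersion (i : Fin (n + 1)) :
    ∃ j : S.Z i ⟶ (S.top i.val).toScheme, IsClosedImmersion j ∧
      j ≫ (S.top i.val).ι = S.ι i ∧ Set.range j = (S.top i.val).ι ⁻¹' {x | S.s x ≤ i} := by
  have := S.isImmersion i
  have hle : Set.range (S.ι i) ⊆ Set.range (S.top i.val).ι := by
    rw [Scheme.Opens.range_ι, S.range_eq]
    exact fun x (hx : S.s x = i) => show i.val ≤ (S.s x).val from le_of_eq (by rw [hx])
  let j := IsOpenImmersion.lift (S.top i.val).ι (S.ι i) hle
  have hj : j ≫ (S.top i.val).ι = S.ι i := IsOpenImmersion.lift_fac _ _ hle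
  have hr : Set.range j = (S.top i.val).ι ⁻¹' {x | S.s x ≤ i} := by
    ext w
    have hw : i.val ≤ (S.s ((S.top i.val).ι w)).val := w.2
    constructor
    · rintro ⟨z, rfl⟩
      have hz : S.s (S.ι i z) = i := (S.range_eq i).le ⟨z, rfl⟩
      simp only [Set.mem_preimage, Set.mem_ofPred_eq, ← Scheme.Hom.comp_apply, hj, hz, le_refl]
    · intro (h : S.s ((S.top i.val).ι w) ≤ i)
      obtain ⟨z, hz⟩ := (S.range_eq i).ge (show S.s ((S.top i.val).ι w) = i from
        le_antisymm h hw)
      exact ⟨z, (S.top i.val).ι.isOpenEmbedding.injective (by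
        rw [← Scheme.Hom.comp_apply, hj, hz])⟩
  have : IsImmersion (j ≫ (S.top i.val).ι) := hj ▸ S.isImmersion i
  have : IsImmersion j := IsImmersion.of_comp j (S.top i.val).ι
  refine ⟨j, IsClosedImmersion.of_isPreimmersion j ?_, hj, hr⟩
  rw [hr]
  exact (S.isClosed i).preimage (S.top i.val).ι.continuous

end Strat

end Groth.FlatMor2.StratVanish
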