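import Groth.Agent.FlatMor2.StratVanish.Core
import Groth.Agent.FlatMor2.StratVanish.Geometry
import Groth.Agent.CohBase.Modules
import Groth.Agent.QCohMod.OpenSupport

/-!
# Vanishing of cohomology above the length of an affine stratification
-/

universe u

open CategoryTheory Limits AlgebraicGeometry Opposite TopologicalSpace

set_option linter.style.haveILetI false

namespace Groth.FlatMor2.StratVanish

open CategoryTheory.Abelian (Ext)

variable {X : Scheme.{u}}

lemma subsingleton_HH_iff (M : X.Modules) (p : ℕ) :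
    Subsingleton (Coh.HH X M p) ↔
      Groth.CohBase.HVanish (X := X.toTopCat) (Groth.CohBase.abSheaf M) p ⊤ :=
  let e := (Groth.CohBase.equivHTop (X := X.toTopCat) (Groth.CohBase.abSheaf M) p).toEquiv
  ⟨fun h => @Equiv.subsingleton _ _ e.symm h, fun h => @Equiv.subsingleton _ _ e h⟩

lemma subsingleton_HH_of_isZero {M : X.Modules} (h : IsZero M) (p : ℕ) :
    Subsingleton (Coh.HH X M p) :=
  Sheaf.subsingleton_H_of_isZero
    ((SheafOfModules.toSheaf.{u} X.ringCatSheaf).map_isZero h) p

/-- Middle and first terms of short exact sequences. -/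
lemma subsingleton_HH_middle {S : ShortComplex X.Modules} (hS : S.ShortExact) (p : ℕ)
    (h1 : Subsingleton (Coh.HH X S.X₁ p)) (h3 : Subsingleton (Coh.HH X S.X₃ p)) :
    Subsingleton (Coh.HH X S.X₂ p) := by
  let Z := Groth.CohBase.freeOpen (X := X.toTopCat) ⊤
  haveI : Subsingleton (Ext Z (S.map (Groth.CohBase.toAbF X)).X₁ p) :=
    (subsingleton_HH_iff _ _).1 h1
  haveI : Subsingleton (Ext Z (S.map (Groth.CohBase.toAbF X)).X₃ p) :=
    (subsingleton_HH_iff _ _).1 h3
  have hT := Groth.CohBase.shortExact_toAb hS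
  have := Groth.SiteCohomology.subsingleton_ext_middle hT Z p
  exact (subsingleton_HH_iff _ _).2 this

lemma subsingleton_HH_first {S : ShortComplex X.Modules} (hS : S.ShortExact) (p : ℕ)
    (h3 : Subsingleton (Coh.HH X S.X₃ p)) (h2 : Subsingleton (Coh.HH X S.X₂ (p + 1))) :
    Subsingleton (Coh.HH X S.X₁ (p + 1)) :=
  (subsingleton_HH_iff _ _).2 (Groth.CohBase.hVanish_first (Groth.CohBase.shortExact_toAb hS)
    ((subsingleton_HH_iff _ _).1 h2) ((subsingleton_HH_iff _ _).1 h3))

/-- The stalk of a restriction. -/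
lemma isZero_stalk_restrict {U : X.Opens} (F : X.Modules) (x : U.toScheme)
    (h : IsZero ((Groth.QCohMod.stalk (U.ι x)).obj F)) :
    IsZero ((Groth.QCohMod.stalk x).obj ((Scheme.Modules.restrictFunctor U.ι).obj F)) :=
  h.of_iso ((Scheme.Modules.restrictStalkNatIso U.ι x).app F)

lemma isZero_stalk_of_notMem_support {M : X.Modules} {x : X} (h : x ∉ CohB1.support M) :
    IsZero ((Groth.QCohMod.stalk x).obj M) :=
  @AddCommGrpCat.isZero_of_subsingleton _ (not_not.1 h)

lemma notMem_support_of_isZero {M : X.Modules} {x : X}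
    (h : IsZero ((Groth.QCohMod.stalk x).obj M)) : x ∉ CohB1.support M :=
  fun hx => hx (AddCommGrpCat.subsingleton_of_isZero h)

/-- The stalks at a point where a morphism is an isomorphism on stalks. -/
lemma isZero_stalk_kernel {M N : X.Modules} (φ : M ⟶ N) (x : X)
    [IsIso ((Groth.QCohMod.stalk x).map φ)] : IsZero ((Groth.QCohMod.stalk x).obj (kernel φ)) :=
  (isZero_kernel_of_mono ((Groth.QCohMod.stalk x).map φ)).of_iso
    (PreservesKernel.iso (Groth.QCohMod.stalk x) φ)

lemma isZero_stalk_cokernel {M N : X.Modules} (φ : M ⟶ N) (x : X)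
    [IsIso ((Groth.QCohMod.stalk x).map φ)] : IsZero ((Groth.QCohMod.stalk x).obj (cokernel φ)) :=
  (isZero_cokernel_of_epi ((Groth.QCohMod.stalk x).map φ)).of_iso
    (PreservesCokernel.iso (Groth.QCohMod.stalk x) φ)

variable {n : ℕ} (S : Strat X n)

/-- The restriction to `top i` of a module supported below is acyclic, as is its direct image. -/
theorem subsingleton_HH_push (i : Fin (n + 1)) (F : X.Modules) [F.IsQuasicoherent]
    (hF : CohB1.support F ⊆ {x | S.s x ≤ i}) (p : ℕ) :
    Subsingleton (Coh.HH X ((Scheme.Modules.pushforward (S.top i.val).ι).obj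
      ((Scheme.Modules.restrictFunctor (S.top i.val).ι).obj F)) (p + 1)) := by
  have := S.compactSpace
  have := S.quasiSeparatedSpace
  obtain ⟨j, hj, hjι, hr⟩ := S.exists_closedImmersion i
  let W : X.Opens := S.top i.val
  let G : W.toScheme.Modules := (Scheme.Modules.restrictFunctor W.ι).obj F
  have hG : G.IsQuasicoherent := inferInstanceAs (F.restrict W.ι).IsQuasicoherent
  have hsG : CohB1.support G ⊆ Set.range j := by
    rw [hr]
    intro w hw
    refine hF fun hsub => hw ?_
    exact AddCommGrpCat.subsingleton_of_isZero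
      (isZero_stalk_restrict F w (@AddCommGrpCat.isZero_of_subsingleton _ hsub))
  -- an open of `W` with affine trace of the stratum
  have key : ∀ W' : W.toScheme.Opens, IsCompact (W' : Set W.toScheme) →
      IsAffineOpen (j ⁻¹ᵁ W') → ∀ q,
      Subsingleton (Sheaf.H (Groth.CohBase.abSheaf (G.restrict W'.ι)) (q + 1) : Type u) := by
    intro W' hc ha q
    have : CompactSpace W'.toScheme := isCompact_iff_compactSpace.1 hc
    have : QuasiSeparatedSpace W.toScheme :=
      (isQuasiSeparated_iff_quasiSeparatedSpace _ W.2).1 (IsQuasiSeparated.of_quasiSeparatedSpace _)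
    have : QuasiSeparatedSpace W'.toScheme :=
      (isQuasiSeparated_iff_quasiSeparatedSpace _ W'.2).1 (IsQuasiSeparated.of_quasiSeparatedSpace _)
    have : IsAffine (j ⁻¹ᵁ W').toScheme := ha
    have : IsClosedImmersion (j ∣_ W') := inferInstance
    refine subsingleton_HH (j ∣_ W') (G.restrict W'.ι) ?_ q
    intro w hw
    have hmem : W'.ι w ∈ CohB1.support G := fun hsub => hw (AddCommGrpCat.subsingleton_of_isZero
      (isZero_stalk_restrict G w (@AddCommGrpCat.isZero_of_subsingleton _ hsub)))
    obtain ⟨z, hz⟩ := hsG hmem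
    have hzW : z ∈ j ⁻¹ᵁ W' := by
      show j z ∈ W'
      rw [hz]; exact w.2
    refine ⟨⟨z, hzW⟩, Subtype.ext ?_⟩
    exact (morphismRestrict_base_coe j W' ⟨z, hzW⟩).trans hz
  have hpush : Groth.CohBase.PushAcyclic W.ι.base (Groth.CohBase.abSheaf G) := by
    intro V y hy
    obtain ⟨V', hV', hyV', hle⟩ := Opens.isBasis_iff_nbhd.mp X.isBasis_affineOpens hy
    refine ⟨V', hle, hyV', fun q => ?_⟩
    have hc : IsCompact ((W.ι ⁻¹ᵁ V' : W.toScheme.Opens) : Set W.toScheme) := by
      rw [W.ι.isOpenEmbedding.isEmbedding.isCompact_iff]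
      have := S.isCompact_affine_inter_top hV' i.val
      rw [show W.ι '' ((W.ι ⁻¹ᵁ V' : W.toScheme.Opens) : Set W.toScheme) =
        ((V' ⊓ W : X.Opens) : Set X) from by
          rw [show ((W.ι ⁻¹ᵁ V' : W.toScheme.Opens) : Set W.toScheme) = W.ι ⁻¹' (V' : Set X) from rfl,
            Set.image_preimage_eq_inter_range, Scheme.Opens.range_ι, Opens.coe_inf]]
      exact this
    have ha : IsAffineOpen (j ⁻¹ᵁ (W.ι ⁻¹ᵁ V')) := by
      rw [← Scheme.Hom.comp_preimage, hjι]
      have := S.isAffineHom i
      exact hV'.preimage _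
    obtain ⟨e⟩ := Groth.CohBase.nonempty_equiv_HHon G (W.ι ⁻¹ᵁ V') (q + 1)
    have := key _ hc ha q
    exact @Equiv.subsingleton _ _ e.symm.toEquiv this
  obtain ⟨e⟩ := hpush.nonempty_equiv_H (p + 1)
  have htop : Subsingleton (Sheaf.H (Groth.CohBase.abSheaf G) (p + 1) : Type u) := by
    have hc : IsCompact (((⊤ : W.toScheme.Opens)) : Set W.toScheme) := by
      rw [Opens.coe_top]
      exact isCompact_univ_iff.2 (isCompact_iff_compactSpace.1 (S.isCompact_top i.val))
    have := S.isAffine i
    have := key ⊤ hc (by rw [Scheme.Hom.preimage_top]; exact isAffineOpen_top _) p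
    obtain ⟨e⟩ := Groth.CohBase.nonempty_equiv_HHon G ⊤ (p + 1)
    exact @Equiv.subsingleton _ _
      ((Groth.CohBase.equivHTop (X := W.toScheme.toTopCat) _ (p + 1)).trans e.symm).toEquiv this
  exact @Equiv.subsingleton _ _ e.toEquiv htop

/-- Modules supported on the first `i` strata. -/
theorem subsingleton_HH_of_support (i : ℕ) (hi : i ≤ n + 1) : ∀ (F : X.Modules),
    Coh.IsQCoh F → (CohB1.support F ⊆ {x | (S.s x).val < i}) → ∀ p, i ≤ p →
      Subsingleton (Coh.HH X F p) := by
  induction i with
  | zero =>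
    intro F _ hF p _
    refine subsingleton_HH_of_isZero ((Groth.QCohMod.isZero_iff_stalk F).2 fun x => ?_) p
    exact isZero_stalk_of_notMem_support fun hx => Nat.not_lt_zero _ (hF hx)
  | succ i ih =>
    intro F hq hF p hp
    obtain ⟨q, rfl⟩ : ∃ q, p = q + 1 := ⟨p - 1, by omega⟩
    have := S.compactSpace
    have := S.quasiSeparatedSpace
    haveI : F.IsQuasicoherent := hq
    let k : Fin (n + 1) := ⟨i, by omega⟩
    let W : X.Opens := S.top i
    haveI : QuasiCompact W.ι := ⟨fun U hU hU' => by
      rw [W.ι.isOpenEmbedding.isEmbedding.isCompact_iff, Set.image_preimage_eq_inter_range,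
        Scheme.Opens.range_ι]
      exact QuasiSeparatedSpace.inter_isCompact _ _ hU hU' W.2 (S.isCompact_top i)⟩
    let G := (Scheme.Modules.restrictFunctor W.ι).obj F
    haveI : G.IsQuasicoherent := inferInstanceAs (F.restrict W.ι).IsQuasicoherent
    haveI := Groth.QCohMod.isQCoh_pushforward G W.ι
    let η := Groth.QCohMod.openUnit W F
    have hlow : ∀ (M : X.Modules), (∀ x ∈ W, IsZero ((Groth.QCohMod.stalk x).obj M)) →
        CohB1.support M ⊆ {x | (S.s x).val < i} := fun M hM x hx => by
      by_contra h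
      exact notMem_support_of_isZero (hM x (show i ≤ (S.s x).val from not_lt.1 h)) hx
    have hK := ih (by omega) (kernel η) (Groth.QCohMod.isQCoh_kernel η) (hlow _ fun x hx => by
      have := Groth.QCohMod.isIso_stalk_openUnit W F hx
      exact isZero_stalk_kernel η x) (q + 1) (by omega)
    have hQ := ih (by omega) (cokernel η) (Groth.QCohMod.isQCoh_cokernel η) (hlow _ fun x hx => by
      have := Groth.QCohMod.isIso_stalk_openUnit W F hx
      exact isZero_stalk_cokernel η x) q (by omega)
    have hP := subsingleton_HH_push S k F (fun x hx => Fin.le_def.2 (Nat.lt_succ_iff.1 (hF hx))) q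
    let S₁ := ShortComplex.mk (kernel.ι η) (Abelian.coimage.π η) (cokernel.condition _)
    have hS₁ : S₁.ShortExact :=
      { exact := S₁.exact_of_g_is_cokernel (cokernelIsCokernel _) }
    let S₂ := ShortComplex.mk (Abelian.image.ι η) (cokernel.π η) (kernel.condition _)
    have hS₂ : S₂.ShortExact :=
      { exact := S₂.exact_of_f_is_kernel (kernelIsKernel _) }
    have hI := subsingleton_HH_first hS₂ q hQ hP
    refine subsingleton_HH_middle hS₁ (q + 1) hK ?_
    exact @Equiv.subsingleton _ _ (((Sheaf.functorH _ (q + 1)).mapIso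
      ((SheafOfModules.toSheaf.{u} X.ringCatSheaf).mapIso
        (Abelian.coimageIsoImage η))).addCommGroupIsoToAddEquiv).toEquiv hI

/-- Cohomology vanishes above the length of an affine stratification. -/
theorem subsingleton_HH_of_stratification (h : MoreMor.HasAffineStratification X n) (F : X.Modules)
    (hF : Coh.IsQCoh F) (p : ℕ) (hp : n < p) : Subsingleton (Coh.HH X F p) := by
  obtain ⟨S⟩ := Strat.nonempty h
  exact subsingleton_HH_of_support S (n + 1) le_rfl F hF (fun x _ => (S.s x).isLt) p hp

end Groth.FlatMor2.StratVanish
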