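import Groth.Agent.FlatMor2.ColimCoh.Space
import Groth.Agent.FlatMor2.AffineThickening
import Groth.Agent.QCohMod.Killed
import Groth.Agent.QCohMod.FTCriterion
import Groth.Agent.CohTwo.ColimStalk
import Groth.Agent.CohBase.AffinePush
import Groth.Agent.S2128

/-!
# Quasi-coherent modules supported on an affine closed subscheme are acyclic
-/

universe u

open CategoryTheory Limits AlgebraicGeometry Opposite TopologicalSpace

set_option linter.style.haveILetI false

namespace Groth.FlatMor2.StratVanish

variable {X : Scheme.{u}}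

lemma isQCoh_FP {M : X.Modules} (h : CohB1.IsFP M) : M.IsQuasicoherent :=
  have := h; inferInstance

lemma isFT_of_isFP {M : X.Modules} (h : CohB1.IsFP M) : CohB1.IsFT M :=
  have := h; inferInstance

/-- Support decreases along monomorphisms. -/
lemma support_subset_of_mono {M N : X.Modules} (φ : M ⟶ N) [Mono φ] :
    CohB1.support M ⊆ CohB1.support N := fun x hx hN => hx (by
  have : Mono ((Groth.QCohMod.stalk x).map φ) := inferInstance
  have hsub : Subsingleton ((Groth.QCohMod.stalk x).obj N) := hN
  exact Function.Injective.subsingleton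
    (β := (Groth.QCohMod.stalk x).obj N) ((AddCommGrpCat.mono_iff_injective _).1 this)
    (f := (Groth.QCohMod.stalk x).map φ))

/-- A scheme with a closed subscheme which is affine and contains all points is affine. -/
theorem isAffine_subscheme {Z : Scheme.{u}} [IsAffine Z] (i : Z ⟶ X) [IsClosedImmersion i]
    (I : X.IdealSheafData) (h : (I.support : Set X) ⊆ Set.range i) : IsAffine I.subscheme := by
  have : IsAffine (pullback i I.subschemeι) :=
    isAffine_of_isAffineHom (pullback.fst i I.subschemeι)
  have : Surjective (pullback.snd i I.subschemeι) := by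
    refine ⟨fun y => ?_⟩
    obtain ⟨z, hz⟩ := h (show I.subschemeι y ∈ (I.support : Set X) by
      rw [← Scheme.IdealSheafData.range_subschemeι]; exact ⟨y, rfl⟩)
    obtain ⟨w, -, hw⟩ := Scheme.Pullback.exists_preimage_pullback (f := i) (g := I.subschemeι) z y hz
    exact ⟨w, hw⟩
  exact Groth.FlatMor2.isAffine_of_surjective_closedImmersion (pullback.snd i I.subschemeι)

/-- Finite type case. -/
theorem hVanish_of_isFT {Z : Scheme.{u}} [IsAffine Z] (i : Z ⟶ X) [IsClosedImmersion i]
    (G : X.Modules) [G.IsQuasicoherent] (hG : CohB1.IsFT G)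
    (hs : CohB1.support G ⊆ Set.range i) (p : ℕ) :
    Subsingleton (Coh.HH X G (p + 1)) := by
  let I := Groth.QCohMod.annIdeal G hG
  have := isAffine_subscheme i I (by rw [Groth.QCohMod.support_annIdeal]; exact hs)
  have hiso : IsIso ((Scheme.Modules.pullbackPushforwardAdjunction I.subschemeι).unit.app G) := by
    rw [Groth.QCohMod.isIso_unit_closedImmersion_iff]
    intro U a ha s
    rw [Scheme.IdealSheafData.ker_subschemeι] at ha
    exact Module.mem_annihilator.1 ha s
  let M := (Scheme.Modules.pullback I.subschemeι).obj G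
  obtain ⟨e⟩ := Groth.CohBase.nonempty_equiv_H_push I.subschemeι M (p + 1)
  have h1 : Subsingleton (Sheaf.H (Groth.CohBase.abSheaf M) (p + 1) : Type u) :=
    haveI := Groth.CohBase.hVanish_of_isAffineOpen M (isAffineOpen_top I.subscheme) p
    (Groth.CohBase.equivHTop (X := I.subscheme.toTopCat) _ (p + 1)).toEquiv.subsingleton
  have h2 : Subsingleton (Coh.HH X ((Scheme.Modules.pushforward I.subschemeι).obj M) (p + 1)) :=
    e.toEquiv.subsingleton
  exact @Equiv.subsingleton _ _ (((Sheaf.functorH _ (p + 1)).mapIso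
    ((SheafOfModules.toSheaf.{u} X.ringCatSheaf).mapIso
      (@asIso _ _ _ _ _ hiso))).addCommGroupIsoToAddEquiv).toEquiv h2

/-- A quasi-coherent module supported on an affine closed subscheme of a quasi-compact and
quasi-separated scheme has no higher cohomology. -/
theorem subsingleton_HH [CompactSpace X] [QuasiSeparatedSpace X] {Z : Scheme.{u}} [IsAffine Z]
    (i : Z ⟶ X) [IsClosedImmersion i] (F : X.Modules) [F.IsQuasicoherent]
    (hs : CohB1.support F ⊆ Set.range i) (p : ℕ) : Subsingleton (Coh.HH X F (p + 1)) := by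
  refine subsingleton_of_forall_eq 0 fun x => ?_
  obtain ⟨I, _, _, D, c, hc, hFP, rfl⟩ := Groth.Agent.S2128.result X F inferInstance
  haveI : PrespectralSpace X.toTopCat := inferInstanceAs (PrespectralSpace X)
  have hU : (⊤ : TopologicalSpace.Opens X.toTopCat) ∈ (ColimCoh.qcqsBasis X.toTopCat).B :=
    ⟨isCompact_univ (X := X), isQuasiSeparated_univ (α := X)⟩
  have hx := ColimCoh.extCommutes_freeSheaf (ColimCoh.qcqsBasis X.toTopCat) hU (p + 1) _
    (isColimitOfPreserves (SheafOfModules.toSheaf.{u} X.ringCatSheaf) hc)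
  obtain ⟨j, y, hy⟩ := hx.exists_rep (Groth.CohBase.equivHTop (X := X.toTopCat) _ (p + 1) x)
  let g := Abelian.factorThruImage (c.ι.app j)
  haveI : (D.obj j).IsQuasicoherent := isQCoh_FP (hFP j)
  haveI : (Abelian.image (c.ι.app j)).IsQuasicoherent :=
    Groth.QCohMod.isQCoh_image (M := D.obj j) (N := c.pt) (c.ι.app j)
  have hfac : c.ι.app j = g ≫ Abelian.image.ι (c.ι.app j) := (Abelian.image.fac _).symm
  have h0 := hVanish_of_isFT i (Abelian.image (c.ι.app j))
    (Groth.QCohMod.isFT_of_epi g (isFT_of_isFP (hFP j)))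
    ((support_subset_of_mono (Abelian.image.ι (c.ι.app j))).trans hs) p
  let T := SheafOfModules.toSheaf.{u} X.ringCatSheaf
  let y' := (Groth.CohBase.equivHTop (X := X.toTopCat) (T.obj (D.obj j)) (p + 1)).symm y
  have hxy : x = Sheaf.H.map (T.map (c.ι.app j)) (p + 1) y' := by
    apply (Groth.CohBase.equivHTop (X := X.toTopCat) _ (p + 1)).injective
    rw [Groth.CohBase.equivHTop_map, AddEquiv.apply_symm_apply]
    exact hy.symm
  rw [hxy, hfac]
  refine (congrArg (fun t => Sheaf.H.map t (p + 1) y')
    (T.map_comp g (Abelian.image.ι (c.ι.app j)))).trans ((Sheaf.H.map_comp_apply _ _ _).trans ?_)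
  rw [@Subsingleton.elim _ h0 (Sheaf.H.map (T.map g) (p + 1) y') 0, map_zero]

end Groth.FlatMor2.StratVanish
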