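import Groth.Prelude.Def_MoreMor
import Mathlib.AlgebraicGeometry.Noetherian
import Mathlib.AlgebraicGeometry.Limits
import Mathlib.AlgebraicGeometry.IdealSheaf.Subscheme
import Mathlib.Topology.KrullDimension

/-!
# Noetherian schemes of dimension `d` have affine stratification number at most `d`
-/

universe u

open CategoryTheory Limits AlgebraicGeometry TopologicalSpace

set_option linter.style.haveILetI false

namespace Groth.FlatMor2.StratVanish

variable {X : Scheme.{u}}

/-- A Noetherian scheme has an affine open with affine inclusion meeting all components. -/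
theorem exists_affineHom_open_meeting_components [IsNoetherian X] :
    ∃ U : X.Opens, IsAffineOpen U ∧ IsAffineHom U.ι ∧
      ∀ C ∈ irreducibleComponents X, ((U : Set X) ∩ C).Nonempty := by
  classical
  obtain ⟨t, hcov⟩ := (isCompact_univ : IsCompact (Set.univ : Set X)).elim_finite_subcover
    (fun U : X.affineOpens => (U.1 : Set X)) (fun U => U.1.2) (fun x _ => by
      obtain ⟨U, hU, hxU, -⟩ := Opens.isBasis_iff_nbhd.mp X.isBasis_affineOpens
        (TopologicalSpace.Opens.mem_top x)
      exact Set.mem_iUnion.2 ⟨⟨U, hU⟩, hxU⟩)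
  have hfin : (irreducibleComponents X).Finite := NoetherianSpace.finite_irreducibleComponents
  have : Finite (irreducibleComponents X) := hfin.to_subtype
  have hW : ∀ C : irreducibleComponents X, ∃ W : X.Opens, IsAffineOpen W ∧ (W : Set X).Nonempty ∧
      (W : Set X) ⊆ C.1 ∧ (∀ C' : irreducibleComponents X, C' ≠ C → Disjoint (W : Set X) C'.1) ∧
      ∀ q ∈ t, (W : Set X) ⊆ q.1 ∨ Disjoint (W : Set X) q.1 := by
    intro C
    have hCcl : IsClosed C.1 := isClosed_of_mem_irreducibleComponents _ C.2
    let η := C.2.1.genericPoint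
    have hη : IsGenericPoint η C.1 := C.2.1.isGenericPoint_genericPoint hCcl
    let G : X.Opens := ⟨(⋃ C' ∈ ({C' | C' ≠ C} : Set (irreducibleComponents X)), C'.1)ᶜ ∩
        ⋂ q ∈ {q | q ∈ t ∧ η ∈ q.1}, (q.1 : Set X),
      ((Set.toFinite _).isClosed_biUnion fun C' _ =>
        isClosed_of_mem_irreducibleComponents _ C'.2).isOpen_compl.inter
        ((t.finite_toSet.subset fun q hq => hq.1).isOpen_biInter fun q _ => q.1.2)⟩
    have hηG : η ∈ G := by
      refine ⟨fun h => ?_, Set.mem_iInter₂.2 fun q hq => hq.2⟩
      obtain ⟨C', hC', hm⟩ := Set.mem_iUnion₂.1 h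
      refine hC' (Subtype.ext ?_)
      exact (C.2.eq_of_ge C'.2.1
        ((hη.mem_closed_set_iff (isClosed_of_mem_irreducibleComponents _ C'.2)).1 hm))
    obtain ⟨W, hW, hηW, hWG⟩ := Opens.isBasis_iff_nbhd.mp X.isBasis_affineOpens hηG
    have hsub : (W : Set X) ⊆ C.1 := fun x hx => by
      by_contra hxC
      refine (hWG hx).1 (Set.mem_biUnion
        (x := ⟨_, irreducibleComponent_mem_irreducibleComponents x⟩) ?_ mem_irreducibleComponent)
      exact fun h => hxC (h ▸ mem_irreducibleComponent (x := x))
    refine ⟨W, hW, ⟨η, hηW⟩, hsub,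
      fun C' hC' => Set.disjoint_left.2 fun x hx hxC' => (hWG hx).1 (Set.mem_biUnion hC' hxC'),
      fun q hq => ?_⟩
    by_cases hηq : η ∈ q.1
    · exact Or.inl fun x hx => Set.mem_iInter₂.1 (hWG hx).2 q ⟨hq, hηq⟩
    · exact Or.inr (Set.disjoint_left.2 fun x hx hxq =>
        hηq ((hη.mem_open_set_iff q.1.2).2 ⟨x, hsub hx, hxq⟩))
  choose W hWaff hWne hWsub hWdisj hWt using hW
  have hpd : Pairwise fun a b => Disjoint (W a) (W b) := fun a b hab => by
    show Disjoint (W a) (W b)
    rw [← Opens.coe_disjoint]
    exact (hWdisj a b hab.symm).mono_right (hWsub b)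
  refine ⟨⨆ C, W C, IsAffineOpen.iSup_of_disjoint hWaff hpd, ?_, fun C hC => ?_⟩
  · refine isAffineHom_of_forall_exists_isAffineOpen _ fun x => ?_
    obtain ⟨q, hq, hxq⟩ := Set.mem_iUnion₂.1 (hcov (Set.mem_univ x))
    refine ⟨q.1, hxq, q.2, ?_⟩
    rw [← Scheme.Hom.isAffineOpen_iff_of_isOpenImmersion (⨆ C, W C).ι,
      Scheme.Hom.image_preimage_eq_opensRange_inf, Scheme.Opens.opensRange_ι]
    have : (⨆ C, W C) ⊓ q.1 = ⨆ C : {C // (W C : Set X) ⊆ q.1}, W C.1 := by
      refine le_antisymm (fun x hx => ?_) (iSup_le fun C => le_inf (le_iSup W C.1) C.2)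
      obtain ⟨C, hC⟩ := Opens.mem_iSup.1 hx.1
      refine Opens.mem_iSup.2 ⟨⟨C, ?_⟩, hC⟩
      rcases hWt C q hq with h | h
      · exact h
      · exact absurd hx.2 (Set.disjoint_left.1 h hC)
    rw [this]
    exact IsAffineOpen.iSup_of_disjoint (fun C => hWaff _) fun a b hab =>
      hpd fun h => hab (Subtype.ext h)
  · obtain ⟨x, hx⟩ := hWne ⟨C, hC⟩
    exact ⟨x, Opens.mem_iSup.2 ⟨_, hx⟩, hWsub ⟨C, hC⟩ hx⟩

/-- A Noetherian scheme of dimension at most `d` has an affine stratification of length `d`. -/
theorem hasAffineStratification_of_dim_le :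
    ∀ (d : ℕ) (X : Scheme.{u}) [IsNoetherian X], topologicalKrullDim X ≤ d →
      MoreMor.HasAffineStratification X d := by
  classical
  intro d
  induction d with
  | zero =>
    intro X _ hd
    obtain ⟨U, hU, -, hmeet⟩ := exists_affineHom_open_meeting_components (X := X)
    have hall : ∀ x : X, x ∈ U := fun x => by
      by_contra hx
      obtain ⟨C, hC, hsub⟩ := exists_mem_irreducibleComponents_subset_of_isIrreducible
        (closure {x}) isIrreducible_singleton.closure
      let T : IrreducibleCloseds X := ⟨closure {x}, isIrreducible_singleton.closure, isClosed_closure⟩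
      let T' : IrreducibleCloseds X := ⟨C, hC.1, isClosed_of_mem_irreducibleComponents _ hC⟩
      have hlt : T < T' := by
        refine lt_of_le_of_ne hsub fun h => ?_
        have hCU : C ⊆ (U : Set X)ᶜ := by
          rw [show C = closure {x} from (congrArg (fun Z : IrreducibleCloseds X => (Z : Set X)) h).symm]
          exact closure_minimal (Set.singleton_subset_iff.2 hx) U.2.isClosed_compl
        obtain ⟨y, hyU, hyC⟩ := hmeet C hC
        exact hCU hyC hyU
      have h1 := le_trans
        (Order.LTSeries.length_le_krullDim ((RelSeries.singleton _ T).snoc T' hlt)) hd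
      simp at h1
      exact not_lt.2 h1 zero_lt_one
    have hX : IsAffine X := by
      have : U = ⊤ := eq_top_iff.2 fun x _ => hall x
      subst this
      have : IsAffine (⊤ : X.Opens).toScheme := hU
      exact .of_isIso X.topIso.inv
    refine ⟨fun _ => 0, fun i => by simp, fun i => ⟨X, 𝟙 X, inferInstance, hX, inferInstance, ?_⟩⟩
    ext x
    simp [Fin.fin_one_eq_zero i]
  | succ d ih =>
    intro X _ hd
    obtain ⟨U, hU, hUhom, hmeet⟩ := exists_affineHom_open_meeting_components (X := X)
    let I := Scheme.IdealSheafData.vanishingIdeal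
      (⟨(U : Set X)ᶜ, U.2.isClosed_compl⟩ : TopologicalSpace.Closeds X)
    let j := I.subschemeι
    have hr : Set.range j = (U : Set X)ᶜ := by
      rw [Scheme.IdealSheafData.range_subschemeι, Scheme.IdealSheafData.coe_support_vanishingIdeal]
      rfl
    have : IsNoetherian I.subscheme :=
      { toIsLocallyNoetherian := LocallyOfFiniteType.isLocallyNoetherian j
        toCompactSpace := QuasiCompact.compactSpace_of_compactSpace j }
    have hdim : topologicalKrullDim I.subscheme ≤ (d : ℕ) := by
      refine iSup_le fun p => ?_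
      let q := p.map _ (IrreducibleCloseds.map_strictMono_of_isInducing j.isClosedEmbedding.isInducing)
      obtain ⟨C, hC, hsub⟩ := exists_mem_irreducibleComponents_subset_of_isIrreducible
        (q.last : Set X) q.last.isIrreducible
      let T' : IrreducibleCloseds X := ⟨C, hC.1, isClosed_of_mem_irreducibleComponents _ hC⟩
      have hlast : (q.last : Set X) ⊆ (U : Set X)ᶜ := by
        rw [LTSeries.last_map]
        exact closure_minimal ((Set.image_subset_range _ _).trans hr.le) U.2.isClosed_compl
      have hlt : q.last < T' := by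
        refine lt_of_le_of_ne hsub fun h => ?_
        obtain ⟨y, hyU, hyC⟩ := hmeet C hC
        have hy : y ∈ (q.last : Set X) := by rw [h]; exact hyC
        exact hlast hy hyU
      have h1 := le_trans (Order.LTSeries.length_le_krullDim (q.snoc T' hlt)) hd
      have h2 : p.length + 1 ≤ d + 1 := by
        simpa [q] using WithBot.coe_le_coe.1 h1
      exact WithBot.coe_le_coe.2 (Nat.cast_le.2 (by omega : p.length ≤ d))
    obtain ⟨s', hs'cl, hs'⟩ := ih I.subscheme hdim
    have hinj : Function.Injective ⇑j := j.isClosedEmbedding.injective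
    let s : X → Fin (d + 1 + 1) := fun x =>
      if h : x ∈ Set.range j then (s' h.choose).castSucc else Fin.last _
    have hs_j : ∀ z, s (j z) = (s' z).castSucc := fun z => by
      have h : j z ∈ Set.range j := ⟨z, rfl⟩
      simp only [s, dif_pos h, hinj h.choose_spec]
    have hs_U : ∀ x, x ∈ U → s x = Fin.last _ := fun x hx =>
      dif_neg fun h => (hr.le h) hx
    have hcases : ∀ x, x ∈ U ∨ ∃ z, j z = x := fun x =>
      (em (x ∈ U)).imp id fun h => hr.ge h
    refine ⟨s, fun i => ?_, fun i => ?_⟩
    · induction i using Fin.lastCases with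
      | last => simp [Fin.le_last]
      | cast i =>
        have : {x : X | s x ≤ i.castSucc} = j '' {z | s' z ≤ i} := by
          ext x
          rcases hcases x with hx | ⟨z, rfl⟩
          · refine ⟨fun h => absurd (hs_U x hx ▸ h) (Fin.castSucc_lt_last i).not_ge, ?_⟩
            rintro ⟨z, -, rfl⟩
            exact absurd hx (hr.le ⟨z, rfl⟩)
          · simp [hs_j, hinj.eq_iff]
        rw [this]
        exact j.isClosedEmbedding.isClosedMap _ (hs'cl i)
    · induction i using Fin.lastCases with
      | last =>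
        refine ⟨U.toScheme, U.ι, inferInstance, hU, hUhom, ?_⟩
        rw [Scheme.Opens.range_ι]
        ext x
        rcases hcases x with hx | ⟨z, rfl⟩
        · simp [hx, hs_U x hx]
        · simp [hs_j, (Fin.castSucc_lt_last (s' z)).ne, show j z ∉ U from hr.le ⟨z, rfl⟩]
      | cast i =>
        obtain ⟨Z, ι, hι, hZ, hιhom, hιr⟩ := hs' i
        refine ⟨Z, ι ≫ j, inferInstance, hZ, inferInstance, ?_⟩
        rw [show ⇑(ι ≫ j) = ⇑j ∘ ⇑ι from rfl, Set.range_comp, hιr]
        ext x
        rcases hcases x with hx | ⟨z, rfl⟩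
        · simp only [Set.mem_image, Set.mem_ofPred_eq]
          refine ⟨?_, fun h => absurd (hs_U x hx ▸ h) (Fin.castSucc_lt_last i).ne'⟩
          rintro ⟨z, -, rfl⟩
          exact absurd hx (hr.le ⟨z, rfl⟩)
        · simp [hs_j, hinj.eq_iff]

end Groth.FlatMor2.StratVanish
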