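import Groth.Agent.FlatMor2.StratVanish.Geometry
import Mathlib.AlgebraicGeometry.IdealSheaf.Subscheme
import Mathlib.AlgebraicGeometry.Morphisms.Separated
import Mathlib.Data.Fin.Tuple.Sort

/-!
# Quasi-compact quasi-separated schemes have affine stratifications

The strata are the sets `D_k ∖ ⋃_{l > k} D_l` for a list of affine opens refining, pattern by
pattern, a finite affine covering.
-/

universe u

open CategoryTheory Limits AlgebraicGeometry TopologicalSpace

set_option linter.style.haveILetI false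

namespace Groth.FlatMor2.StratVanish

variable {X : Scheme.{u}}

/-- An affine stratification from a list of affine opens whose successive differences meet each
member of an affine covering in all or nothing. -/
theorem hasAffineStratification_of_opens {n : ℕ} (D : Fin (n + 1) → X.Opens)
    (hD : ∀ i, IsAffineOpen (D i)) (hcov : ⨆ i, D i = ⊤) {κ : Type*} (U : κ → X.Opens)
    (hU : ∀ q, IsAffineOpen (U q)) (hUcov : ⨆ q, U q = ⊤)
    (hdich : ∀ i q, (∀ x ∈ D i, (∀ l, i < l → x ∉ D l) → x ∈ U q) ∨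
      (∀ x ∈ D i, (∀ l, i < l → x ∉ D l) → x ∉ U q)) :
    MoreMor.HasAffineStratification X n := by
  classical
  have hx : ∀ x : X, (Finset.univ.filter fun i => x ∈ D i).Nonempty := by
    intro x
    obtain ⟨i, hi⟩ := TopologicalSpace.Opens.mem_iSup.mp (hcov.ge (Set.mem_univ x))
    exact ⟨i, by simp [hi]⟩
  let s : X → Fin (n + 1) := fun x => (Finset.univ.filter fun i => x ∈ D i).max' (hx x)
  have hs : ∀ x i, x ∈ D i → i ≤ s x := fun x i hi => Finset.le_max' _ _ (by simp [hi])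
  have hs' : ∀ x, x ∈ D (s x) := fun x => by simpa using Finset.max'_mem _ (hx x)
  have hmem : ∀ x i, s x = i ↔ x ∈ D i ∧ ∀ l, i < l → x ∉ D l := fun x i =>
    ⟨fun h => h ▸ ⟨hs' x, fun l hl hm => (hs x l hm).not_gt hl⟩,
      fun ⟨h1, h2⟩ => le_antisymm (not_lt.1 fun hlt => h2 _ hlt (hs' x)) (hs x i h1)⟩
  refine ⟨s, fun i => ?_, fun i => ?_⟩
  · have : {x : X | s x ≤ i}ᶜ = ⋃ j ∈ {j | i < j}, (D j : Set X) := by
      ext x
      simp only [Set.mem_compl_iff, Set.mem_ofPred_eq, not_le, Set.mem_iUnion, SetLike.mem_coe, exists_prop]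
      exact ⟨fun h => ⟨s x, h, hs' x⟩, fun ⟨j, h, hj⟩ => h.trans_le (hs x j hj)⟩
    rw [← isOpen_compl_iff, this]
    exact isOpen_biUnion fun j _ => (D j).2
  · let T : TopologicalSpace.Closeds (D i).toScheme :=
      ⟨(D i).ι ⁻¹' (⋃ j ∈ {j | i < j}, (D j : Set X))ᶜ,
        ((isOpen_biUnion fun j _ => (D j).2).isClosed_compl).preimage (D i).ι.continuous⟩
    let I := Scheme.IdealSheafData.vanishingIdeal T
    have : IsAffine (D i).toScheme := hD i
    have : IsAffine I.subscheme := isAffine_of_isAffineHom I.subschemeι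
    let ι := I.subschemeι ≫ (D i).ι
    have hr : Set.range ι = {x : X | s x = i} := by
      rw [show ⇑ι = (D i).ι ∘ I.subschemeι from rfl, Set.range_comp,
        Scheme.IdealSheafData.range_subschemeι, Scheme.IdealSheafData.coe_support_vanishingIdeal]
      ext x
      constructor
      · rintro ⟨y, hy, rfl⟩
        refine (hmem _ i).2 ⟨y.2, fun l hl hm => ?_⟩
        exact hy (Set.mem_biUnion (x := l) hl hm)
      · intro (hx : s x = i)
        obtain ⟨h1, h2⟩ := (hmem x i).1 hx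
        refine ⟨⟨x, h1⟩, fun hc => ?_, rfl⟩
        obtain ⟨l, hl, hm⟩ := Set.mem_iUnion₂.1 hc
        exact h2 l hl hm
    have hpt : ∀ z, ι z ∈ D i ∧ ∀ l, i < l → ι z ∉ D l := fun z =>
      (hmem _ i).1 (hr.le ⟨z, rfl⟩)
    have : IsAffineHom ι := by
      refine isAffineHom_of_isPullback_cover ι U hU hUcov fun q => ?_
      rcases hdich i q with h | h
      · have : ι ⁻¹ᵁ U q = ⊤ := eq_top_iff.2 fun z _ => h _ (hpt z).1 (hpt z).2
        rw [this]; exact isAffineOpen_top _
      · have : ι ⁻¹ᵁ U q = ⊥ := eq_bot_iff.2 fun z hz => h _ (hpt z).1 (hpt z).2 hz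
        rw [this]; exact isAffineOpen_bot _
    exact ⟨I.subscheme, ι, inferInstance, ‹_›, ‹_›, hr⟩
where
  isAffineHom_of_isPullback_cover {Z X : Scheme.{u}} (f : Z ⟶ X) {κ : Type _} (U : κ → X.Opens)
      (hU : ∀ q, IsAffineOpen (U q)) (hUcov : ⨆ q, U q = ⊤)
      (h : ∀ q, IsAffineOpen (f ⁻¹ᵁ U q)) : IsAffineHom f :=
    isAffineHom_of_forall_exists_isAffineOpen f fun x => by
      obtain ⟨q, hq⟩ := TopologicalSpace.Opens.mem_iSup.mp (hUcov.ge (Set.mem_univ x))
      exact ⟨U q, hq, hU q, h q⟩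

/-- Quasi-compact quasi-separated schemes have affine stratifications. -/
theorem exists_hasAffineStratification [CompactSpace X] [QuasiSeparatedSpace X] :
    ∃ n, MoreMor.HasAffineStratification X n := by
  classical
  by_cases hne : IsEmpty X
  · refine ⟨0, fun _ => 0, fun i => by simp, fun i => ⟨X, 𝟙 X, inferInstance, ?_, inferInstance, ?_⟩⟩
    · exact inferInstance
    · ext x; exact hne.elim x
  rw [not_isEmpty_iff] at hne
  obtain ⟨t, hcov⟩ := (isCompact_univ : IsCompact (Set.univ : Set X)).elim_finite_subcover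
    (fun U : X.affineOpens => (U.1 : Set X)) (fun U => U.1.2) (fun x _ => by
      obtain ⟨U, hU, hxU, -⟩ := Opens.isBasis_iff_nbhd.mp X.isBasis_affineOpens
        (TopologicalSpace.Opens.mem_top x)
      exact Set.mem_iUnion.2 ⟨⟨U, hU⟩, hxU⟩)
  let U : t → X.Opens := fun q => q.1.1
  have hcU : ∀ x : X, ∃ q, x ∈ U q := fun x => by
    obtain ⟨q, hq, hx⟩ := Set.mem_iUnion₂.1 (hcov (Set.mem_univ x))
    exact ⟨⟨q, hq⟩, hx⟩
  -- for a pattern `P`, finitely many affine opens with union `U_P`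
  have hfin : ∀ P : Finset t, P.Nonempty → ∃ B : Finset X.affineOpens,
      ∀ x, (∀ q ∈ P, x ∈ U q) ↔ ∃ D ∈ B, x ∈ D.1 := by
    intro P hP
    obtain ⟨W, hW, hWc⟩ : ∃ W : X.Opens, (∀ x, x ∈ W ↔ ∀ q ∈ P, x ∈ U q) ∧
        IsCompact (W : Set X) := by
      induction hP using Finset.Nonempty.cons_induction with
      | singleton a => exact ⟨U a, fun x => by simp, a.1.2.isCompact⟩
      | cons a s ha hs ih =>
        obtain ⟨W, hW, hWc⟩ := ih
        exact ⟨U a ⊓ W, fun x => by simp [hW], by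
          rw [Opens.coe_inf]
          exact QuasiSeparatedSpace.inter_isCompact _ _ (U a).2 a.1.2.isCompact W.2 hWc⟩
    have : (W : Set X) ⊆ ⋃ D : {D : X.affineOpens // D.1 ≤ W}, (D.1.1 : Set X) := fun x hx => by
      obtain ⟨D, hD, hxD, hle⟩ := Opens.isBasis_iff_nbhd.mp X.isBasis_affineOpens hx
      exact Set.mem_iUnion.2 ⟨⟨⟨D, hD⟩, hle⟩, hxD⟩
    obtain ⟨B', hB'⟩ := hWc.elim_finite_subcover _ (fun D => D.1.1.2) this
    refine ⟨B'.image fun D => D.1, fun x => (hW x).symm.trans ⟨fun hx => ?_, ?_⟩⟩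
    · obtain ⟨D, hD, hxD⟩ := Set.mem_iUnion₂.1 (hB' hx)
      exact ⟨_, Finset.mem_image_of_mem _ hD, hxD⟩
    · rintro ⟨D, hD, hxD⟩
      obtain ⟨D', -, rfl⟩ := Finset.mem_image.1 hD
      exact D'.2 hxD
  choose B hB using hfin
  -- the pattern of a point
  let pat : X → Finset t := fun x => Finset.univ.filter fun q => x ∈ U q
  have hpat : ∀ x, (pat x).Nonempty := fun x =>
    (hcU x).elim fun q hq => ⟨q, by simp [pat, hq]⟩
  -- the list, sorted by the size of the pattern
  let T := Σ P : {P : Finset t // P.Nonempty}, {D // D ∈ B P.1 P.2}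
  let rk : T → ℕ := fun a => a.1.1.card
  obtain ⟨n, hn⟩ : ∃ n, Fintype.card T = n + 1 := by
    obtain ⟨x⟩ := hne
    obtain ⟨D, hD, -⟩ := (hB _ (hpat x) x).1 (by simp [pat])
    have : 0 < Fintype.card T := Fintype.card_pos_iff.2 ⟨⟨⟨pat x, hpat x⟩, ⟨D, hD⟩⟩⟩
    exact ⟨Fintype.card T - 1, by omega⟩
  let e₀ : Fin (n + 1) ≃ T := (Fintype.equivFinOfCardEq hn).symm
  let σ := Tuple.sort (rk ∘ e₀)
  have hmono : Monotone (rk ∘ e₀ ∘ σ) := Tuple.monotone_sort (rk ∘ e₀)
  let e : Fin (n + 1) ≃ T := σ.trans e₀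
  refine ⟨n, hasAffineStratification_of_opens (fun i => (e i).2.1.1) (fun i => (e i).2.1.2) ?_ U
    (fun q => q.1.2) (eq_top_iff.2 fun x _ => Opens.mem_iSup.2 (hcU x)) fun i q => ?_⟩
  · refine eq_top_iff.2 fun x _ => Opens.mem_iSup.2 ?_
    obtain ⟨D, hD, hxD⟩ := (hB _ (hpat x) x).1 (by simp [pat])
    exact ⟨e.symm ⟨⟨pat x, hpat x⟩, ⟨D, hD⟩⟩, by rw [e.apply_symm_apply]; exact hxD⟩
  · -- on the `i`-th stratum the pattern is constant
    have hconst : ∀ x ∈ (e i).2.1.1, (∀ l, i < l → x ∉ (e l).2.1.1) → pat x = (e i).1.1 := by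
      intro x hxi hnot
      have hsub : (e i).1.1 ⊆ pat x := fun p hp => by
        have h1 := (hB _ (e i).1.2 x).2 ⟨_, (e i).2.2, hxi⟩
        simpa [pat] using h1 p hp
      refine (hsub.eq_or_ssubset).elim Eq.symm fun hlt => ?_
      obtain ⟨D, hD, hxD⟩ := (hB _ (hpat x) x).1 (by simp [pat])
      let a : T := ⟨⟨pat x, hpat x⟩, ⟨D, hD⟩⟩
      refine absurd ?_ (hnot (e.symm a) ?_)
      · rw [e.apply_symm_apply]; exact hxD
      · by_contra hle
        have h2 := hmono (not_lt.1 hle)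
        have h3 : rk a = rk (e (e.symm a)) := by rw [e.apply_symm_apply]
        change rk (e (e.symm a)) ≤ rk (e i) at h2
        exact absurd (Finset.card_lt_card hlt) (not_lt.2 (le_of_eq_of_le h3 h2))
    by_cases hq : q ∈ (e i).1.1
    · exact Or.inl fun x hxi hnot => by
        have := hconst x hxi hnot
        rw [← this] at hq
        simpa [pat] using hq
    · exact Or.inr fun x hxi hnot hxq => by
        have := hconst x hxi hnot
        exact hq (this ▸ by simp [pat, hxq])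

end Groth.FlatMor2.StratVanish
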